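import Mathlib.GroupTheory.Nilpotent
import Cfsg.Agent.H14.GaloisKernel
import Cfsg.Agent.H12.Linear
import Cfsg.Agent.H24.CharBasic
import Cfsg.Agent.H27.ClassBasic

/-!
The class number of a finite group all of whose prime divisors are at least `p`.
-/

set_option autoImplicit false

namespace H4.ManyClasses

open Cfsg Subgroup

variable {H : Type*} [Group H] [Finite H] {p : ℕ}

/-- Nonlinear degrees are at least `p`, and there are `|H : H'|` linear characters. -/
theorem classes_bound (hprimes : ∀ r : ℕ, r.Prime → r ∣ Nat.card H → p ≤ r) :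
    p ^ 2 * Nat.card (ConjClasses H) + (commutator H).index ≤
      p ^ 2 * (commutator H).index + Nat.card H := by
  classical
  haveI := Fintype.ofFinite H
  have hsum := H14.GaloisKernel.sum_charDegree_sq (P := H)
  set L := Finset.univ.filter fun χ : IrrCharacter H => (χ : H → ℂ) 1 = 1 with hL
  have hLc : L.card = (commutator H).index := by
    rw [← H12.card_linear_irr, hL, ← Fintype.card_subtype, ← Nat.card_eq_fintype_card]
  have hone : ∀ χ ∈ L, charDegree (χ : H → ℂ) ^ 2 = 1 := by
    intro χ hχ
    have h := (Finset.mem_filter.mp hχ).2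
    rw [H24.irr_one, ← Nat.cast_one, Nat.cast_inj] at h
    rw [h, one_pow]
  have hbig : ∀ χ ∈ Finset.univ \ L, p ^ 2 ≤ charDegree (χ : H → ℂ) ^ 2 := by
    intro χ hχ
    refine Nat.pow_le_pow_left ?_ 2
    have h1 : charDegree (χ : H → ℂ) ≠ 1 := by
      intro h
      exact (Finset.mem_sdiff.mp hχ).2
        (Finset.mem_filter.mpr ⟨Finset.mem_univ _, by rw [H24.irr_one, h, Nat.cast_one]⟩)
    have hd := H24.charDegree_dvd_card χ
    obtain ⟨r, hr, hrd⟩ := Nat.exists_prime_and_dvd h1
    have h0 : charDegree (χ : H → ℂ) ≠ 0 := fun h0 => by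
      rw [h0, zero_dvd_iff] at hd
      exact Nat.card_pos.ne' hd
    exact (hprimes r hr (hrd.trans hd)).trans (Nat.le_of_dvd (Nat.pos_of_ne_zero h0) hrd)
  rw [← Finset.sum_sdiff (Finset.subset_univ L), Finset.sum_congr rfl hone, Finset.sum_const,
    smul_eq_mul, mul_one, hLc] at hsum
  have hlow := Finset.card_nsmul_le_sum _ _ _ hbig
  rw [smul_eq_mul] at hlow
  have hk : (Finset.univ \ L).card + (commutator H).index = Nat.card (ConjClasses H) := by
    rw [← hLc, Finset.card_sdiff_add_card_eq_card (Finset.subset_univ L), Finset.card_univ,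
      ← Nat.card_eq_fintype_card, H12.card_irrCharacter]
  rw [← hk, Nat.mul_add, Nat.mul_comm (p ^ 2) (Finset.univ \ L).card]
  omega

theorem card_commutator_le (hprimes : ∀ r : ℕ, r.Prime → r ∣ Nat.card H → p ≤ r)
    (hmany : Nat.card H < p * Nat.card (ConjClasses H)) : Nat.card (commutator H) ≤ p := by
  by_contra hd
  have hb := classes_bound hprimes
  have hc : 0 < (commutator H).index := Nat.pos_of_ne_zero index_ne_zero_of_finite
  rw [← (commutator H).card_mul_index] at hb hmany
  have h1 : p + 1 ≤ Nat.card (commutator H) := by omega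
  rcases Nat.eq_zero_or_pos p with rfl | hp
  · simp at hmany
  obtain ⟨q, rfl⟩ : ∃ q, p = q + 1 := ⟨p - 1, by omega⟩
  nlinarith [Nat.mul_le_mul_left q (Nat.mul_le_mul_left (commutator H).index h1),
    Nat.mul_lt_mul_of_pos_left hmany hp]

theorem mul_classes_le (hprimes : ∀ r : ℕ, r.Prime → r ∣ Nat.card H → p ≤ r)
    (hne : commutator H ≠ ⊥) :
    p ^ 3 * Nat.card (ConjClasses H) ≤ Nat.card H * (p ^ 2 + p - 1) := by
  have hd : p ≤ Nat.card (commutator H) := by
    obtain ⟨r, hr, hrd⟩ := Nat.exists_prime_and_dvd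
      (fun h => hne ((commutator H).eq_bot_of_card_eq h))
    exact (hprimes r hr (hrd.trans (card_subgroup_dvd_card _))).trans
      (Nat.le_of_dvd Nat.card_pos hrd)
  have hb := classes_bound hprimes
  rw [← (commutator H).card_mul_index] at hb ⊢
  rcases Nat.eq_zero_or_pos p with rfl | hp
  · simp
  have h2 : 1 ≤ p ^ 2 := Nat.one_le_pow _ _ hp
  obtain ⟨t, ht⟩ := Nat.exists_eq_add_of_le h2
  have h3 : p ^ 2 + p - 1 = t + p := by omega
  have hp3 : p ^ 3 = p * (1 + t) := by rw [← ht]; ring
  rw [h3, hp3]
  rw [ht] at hb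
  nlinarith [Nat.mul_le_mul_left (t * (commutator H).index) hd,
    Nat.mul_le_mul_left p hb]

theorem isNilpotent_of_many (hp : 2 ≤ p) (hprimes : ∀ r : ℕ, r.Prime → r ∣ Nat.card H → p ≤ r)
    (hmany : Nat.card H < p * Nat.card (ConjClasses H)) : Group.IsNilpotent H := by
  have hd := card_commutator_le hprimes hmany
  have hcen : commutator H ≤ center H := by
    intro x hx
    by_contra hxc
    have h1 := H27.one_lt_index_cent hxc
    obtain ⟨r, hr, hrd⟩ := Nat.exists_prime_and_dvd h1.ne'
    have hrp := hprimes r hr (hrd.trans (H27.index_cent_dvd_card x))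
    have hle : (centralizer ({x} : Set H)).index < Nat.card (commutator H) := by
      rw [← H27.card_carrier_eq_index, Nat.card_coe_set_eq]
      refine Set.ncard_lt_ncard ⟨fun y hy => ?_, fun hsub => ?_⟩ (Set.toFinite _)
      · obtain ⟨g, rfl⟩ := isConj_iff.mp (ConjClasses.mk_eq_mk_iff_isConj.mp
          (ConjClasses.mem_carrier_iff_mk_eq.mp hy).symm)
        exact (inferInstance : (commutator H).Normal).conj_mem x hx g
      · have := ConjClasses.mem_carrier_iff_mk_eq.mp (hsub (one_mem (commutator H)))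
        have hx1 : x = 1 := isConj_one_right.mp (ConjClasses.mk_eq_mk_iff_isConj.mp this)
        exact hxc (hx1 ▸ one_mem _)
    have := Nat.le_of_dvd (by omega) hrd
    omega
  refine Subgroup.isNilpotent_of_ker_le_center (H := Abelianization H) Abelianization.of ?_
  rw [Abelianization.ker_of]
  exact hcen

theorem isMulCommutative_of_many (hprimes : ∀ r : ℕ, r.Prime → r ∣ Nat.card H → p ≤ r)
    (hmany : Nat.card H * (p ^ 2 + p - 1) < p ^ 3 * Nat.card (ConjClasses H)) :
    IsMulCommutative H := by
  have h : commutator H = ⊥ := by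
    by_contra hne
    exact absurd (mul_classes_le hprimes hne) (not_le.mpr hmany)
  refine ⟨⟨fun a b => commutatorElement_eq_one_iff_mul_comm.mp ?_⟩⟩
  rw [← Subgroup.mem_bot, ← h]
  exact commutator_mem_commutator (mem_top _) (mem_top _)

end H4.ManyClasses
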