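import Cfsg.Agent.H27.PiClasses
import Cfsg.Agent.H27.ClassBasic
import Cfsg.Agent.H4.ManyClasses.Degree

/-!
Counting the classes of elements killed by a number.
-/

set_option autoImplicit false

namespace H4.ManyClasses

open Subgroup
open scoped commutatorElement

universe u

variable {G : Type u} [Group G]

/-- The number of classes of elements `g` with `g ^ m = 1`. -/
noncomputable def kk (G : Type u) [Group G] (m : ℕ) : ℕ :=
  Nat.card {C : ConjClasses G // ∃ g : G, ConjClasses.mk g = C ∧ g ^ m = 1}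

variable [Finite G]

theorem card_subtype_le_add {α : Type*} [Finite α] {A B C : α → Prop}
    (h : ∀ a, A a → B a ∨ C a) :
    Nat.card {a // A a} ≤ Nat.card {a // B a} + Nat.card {a // C a} := by
  rw [← Set.coe_setOf A, ← Set.coe_setOf B, ← Set.coe_setOf C, Nat.card_coe_set_eq,
    Nat.card_coe_set_eq, Nat.card_coe_set_eq]
  exact (Set.ncard_le_ncard (fun a ha => h a ha) (Set.toFinite _)).trans (Set.ncard_union_le _ _)

theorem kk_le_of_cover {m : ℕ} (H : Subgroup G)
    (hcov : ∀ g : G, g ^ m = 1 → ∃ x : G, x * g * x⁻¹ ∈ H) :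
    kk G m ≤ Nat.card (ConjClasses H) := by
  have h : ∀ C : {C : ConjClasses G // ∃ g : G, ConjClasses.mk g = C ∧ g ^ m = 1},
      ∃ z : H, ConjClasses.mk (z : G) = C.1 := by
    intro C
    obtain ⟨g, hg, hgm⟩ := C.2
    obtain ⟨x, hx⟩ := hcov g hgm
    exact ⟨⟨_, hx⟩, (ConjClasses.mk_eq_mk_iff_isConj.mpr (isConj_iff.mpr ⟨x, rfl⟩)).symm.trans hg⟩
  choose z hz using h
  refine Nat.card_le_card_of_injective (fun C => ConjClasses.mk (z C)) fun C D hCD => Subtype.ext ?_
  obtain ⟨c, hc⟩ := isConj_iff.mp (ConjClasses.mk_eq_mk_iff_isConj.mp hCD)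
  rw [← hz C, ← hz D, ConjClasses.mk_eq_mk_iff_isConj, isConj_iff]
  exact ⟨c, congrArg Subtype.val hc⟩

theorem kk_mono {m M : ℕ} (h : ∀ g : G, g ^ m = 1 → g ^ M = 1) : kk G m ≤ kk G M := by
  refine Nat.card_le_card_of_injective (fun C => ⟨C.1, ?_⟩) ?_
  · obtain ⟨g, hg, hgm⟩ := C.2
    exact ⟨g, hg, h g hgm⟩
  · intro a b hab
    exact Subtype.ext (congrArg (fun t => t.1) hab)

/-- `m` contains the full part of the group order for each of its primes. -/
def IsFull (G : Type u) [Group G] (m : ℕ) : Prop :=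
  ∀ r : ℕ, r.Prime → r ∣ m → (Nat.card G).factorization r ≤ m.factorization r

theorem IsFull.subgroup {m : ℕ} (h : IsFull G m) (H : Subgroup G) : IsFull H m := fun r hr hrm =>
  ((Nat.factorization_le_iff_dvd Nat.card_pos.ne' Nat.card_pos.ne').mpr
    (card_subgroup_dvd_card H) r).trans (h r hr hrm)

theorem kk_le_self {m : ℕ} (hm : m ≠ 0) (h : IsFull G m) : kk G m ≤ m :=
  H27.card_classes_pow_eq_one_le m hm G h

theorem kk_le_gcd {m : ℕ} (hm : m ≠ 0) (h : IsFull G m) : kk G m ≤ Nat.gcd m (Nat.card G) := by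
  refine (kk_mono fun g hg => pow_gcd_eq_one.mpr ⟨hg, pow_card_eq_one'⟩).trans
    (kk_le_self (Nat.gcd_ne_zero_left hm) fun r hr hrd => ?_)
  rw [Nat.factorization_gcd hm Nat.card_pos.ne', Finsupp.inf_apply]
  exact le_inf (h r hr (hrd.trans (Nat.gcd_dvd_left _ _))) le_rfl

theorem card_split_le {a b : ℕ} (hab : a.Coprime b) (S : ConjClasses G → Prop) (B : ℕ)
    (hB : ∀ x : G, x ^ a = 1 → S (ConjClasses.mk x) → kk (centralizer ({x} : Set G)) b ≤ B) :
    Nat.card {C : ConjClasses G // ∃ x y : G, x ^ a = 1 ∧ y ^ b = 1 ∧ Commute x y ∧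
        S (ConjClasses.mk x) ∧ ConjClasses.mk (x * y) = C} ≤
      Nat.card {D : ConjClasses G // (∃ x : G, ConjClasses.mk x = D ∧ x ^ a = 1) ∧ S D} * B := by
  classical
  let Y := {D : ConjClasses G // (∃ x : G, ConjClasses.mk x = D ∧ x ^ a = 1) ∧ S D}
  let rep : Y → G := fun D => D.2.1.choose
  have hrep : ∀ D : Y, ConjClasses.mk (rep D) = D.1 ∧ rep D ^ a = 1 := fun D => D.2.1.choose_spec
  let Z : Y → Type u := fun D =>
    {E : ConjClasses (centralizer ({rep D} : Set G)) // ∃ g, ConjClasses.mk g = E ∧ g ^ b = 1}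
  cases nonempty_fintype Y
  calc _ ≤ Nat.card (Σ D : Y, Z D) := by
        refine Nat.card_le_card_of_surjective (fun t =>
          ⟨ConjClasses.mk (rep t.1 * (t.2.2.choose : G)), rep t.1, (t.2.2.choose : G),
            (hrep t.1).2, congrArg Subtype.val t.2.2.choose_spec.2,
            H27.mem_cent_comm.mp t.2.2.choose.2, (hrep t.1).1.symm ▸ t.1.2.2, rfl⟩) ?_
        rintro ⟨C, x, y, hx, hy, hxy, hS, rfl⟩
        let D₀ : Y := ⟨ConjClasses.mk x, ⟨x, rfl, hx⟩, hS⟩
        obtain ⟨g, hg⟩ := isConj_iff.mp (ConjClasses.mk_eq_mk_iff_isConj.mp (hrep D₀).1.symm)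
        have hy' : g * y * g⁻¹ ∈ centralizer ({rep D₀} : Set G) := by
          rw [H27.mem_cent_comm, ← hg]
          simpa [MulAut.conj_apply] using hxy.map (MulAut.conj g).toMonoidHom
        let E₀ : Z D₀ := ⟨ConjClasses.mk ⟨_, hy'⟩, _, rfl, Subtype.ext (by simp [hy])⟩
        refine ⟨⟨D₀, E₀⟩, Subtype.ext ?_⟩
        obtain ⟨c, hc⟩ := isConj_iff.mp (ConjClasses.mk_eq_mk_iff_isConj.mp E₀.2.choose_spec.1)
        have hc' : (c : G) * (E₀.2.choose : G) * (c : G)⁻¹ = g * y * g⁻¹ := congrArg Subtype.val hc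
        refine ConjClasses.mk_eq_mk_iff_isConj.mpr (isConj_iff.mpr ⟨g⁻¹ * c, ?_⟩)
        calc g⁻¹ * (c : G) * (rep D₀ * (E₀.2.choose : G)) * (g⁻¹ * (c : G))⁻¹
            = g⁻¹ * ((c : G) * rep D₀ * (c : G)⁻¹ *
                ((c : G) * (E₀.2.choose : G) * (c : G)⁻¹)) * g := by group
          _ = g⁻¹ * (rep D₀ * (g * y * g⁻¹)) * g := by
              rw [hc', H27.mem_cent.mp c.2, mul_inv_cancel_right]
          _ = x * y := by rw [← hg]; group
    _ = ∑ D : Y, Nat.card (Z D) := Nat.card_sigma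
    _ ≤ ∑ _D : Y, B := Finset.sum_le_sum fun D _ =>
          hB _ (hrep D).2 ((hrep D).1.symm ▸ D.2.2)
    _ = Nat.card Y * B := by simp [Nat.card_eq_fintype_card]

theorem kk_mul_le_add {a b : ℕ} (hab : a.Coprime b) (S : ConjClasses G → Prop) :
    kk G (a * b) ≤
      Nat.card {C : ConjClasses G // ∃ x y : G, x ^ a = 1 ∧ y ^ b = 1 ∧ Commute x y ∧
        S (ConjClasses.mk x) ∧ ConjClasses.mk (x * y) = C} +
      Nat.card {C : ConjClasses G // ∃ x y : G, x ^ a = 1 ∧ y ^ b = 1 ∧ Commute x y ∧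
        ¬ S (ConjClasses.mk x) ∧ ConjClasses.mk (x * y) = C} := by
  refine card_subtype_le_add fun C hC => ?_
  obtain ⟨g, rfl, hg⟩ := hC
  obtain ⟨x, y, hxy, hx, hy, rfl⟩ := H27.exists_split hab hg
  by_cases hS : S (ConjClasses.mk x)
  · exact Or.inl ⟨x, y, hx, hy, hxy, hS, rfl⟩
  · exact Or.inr ⟨x, y, hx, hy, hxy, hS, rfl⟩

theorem kk_mul_le {a b : ℕ} (hab : a.Coprime b) (B : ℕ)
    (hB : ∀ x : G, x ^ a = 1 → kk (centralizer ({x} : Set G)) b ≤ B) :
    kk G (a * b) ≤ kk G a * B := by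
  refine le_trans ?_ ((card_split_le hab (fun _ => True) B fun x hx _ => hB x hx).trans
    (Nat.mul_le_mul_right B ?_))
  · refine (kk_mul_le_add hab (fun _ => True)).trans (le_of_eq ?_)
    have : IsEmpty {C : ConjClasses G // ∃ x y : G, x ^ a = 1 ∧ y ^ b = 1 ∧ Commute x y ∧
        ¬ True ∧ ConjClasses.mk (x * y) = C} :=
      ⟨fun C => by obtain ⟨x, y, -, -, -, h, -⟩ := C.2; exact h trivial⟩
    simp only [Nat.card_eq_zero.mpr (Or.inl this), add_zero]
  · exact Nat.card_le_card_of_injective (fun D => ⟨D.1, D.2.1⟩)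
      fun a b h => Subtype.ext (congrArg (fun t => t.1) h)

theorem exists_conj_mem_sylow {r : ℕ} [Fact r.Prime] (P : Sylow r G) {y : G} {e : ℕ}
    (hy : y ^ r ^ e = 1) : ∃ x : G, x * y * x⁻¹ ∈ (P : Subgroup G) := by
  obtain ⟨i, -, hi⟩ := (Nat.dvd_prime_pow Fact.out).mp (orderOf_dvd_of_pow_eq_one hy)
  obtain ⟨Q, hQ⟩ := IsPGroup.exists_le_sylow
    (IsPGroup.of_card (p := r) (G := zpowers y) (n := i) (by rw [Nat.card_zpowers, hi]))
  obtain ⟨x, hx⟩ := MulAction.exists_smul_eq G Q P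
  refine ⟨x, ?_⟩
  rw [← hx, Sylow.coe_subgroup_smul]
  exact Subgroup.mem_map_of_mem (MulAut.conj x).toMonoidHom (hQ (mem_zpowers y))

/-- With an element of the normalizer, most classes meet a subgroup twice. -/
theorem two_mul_kk_le {m : ℕ} (Q : Subgroup G)
    (hcov : ∀ g : G, g ^ m = 1 → ∃ x : G, x * g * x⁻¹ ∈ Q) {n : G}
    (hn : n ∈ normalizer (Q : Set G)) :
    2 * kk G m ≤ Nat.card Q + Nat.card (Q ⊓ centralizer ({n} : Set G) : Subgroup G) := by
  classical
  let Y := {C : ConjClasses G // ∃ g : G, ConjClasses.mk g = C ∧ g ^ m = 1}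
  have h : ∀ C : Y, ∃ z : Q, ConjClasses.mk (z : G) = C.1 := by
    intro C
    obtain ⟨g, hg, hgm⟩ := C.2
    obtain ⟨x, hx⟩ := hcov g hgm
    exact ⟨⟨_, hx⟩, (ConjClasses.mk_eq_mk_iff_isConj.mpr (isConj_iff.mpr ⟨x, rfl⟩)).symm.trans hg⟩
  choose z hz using h
  let f : Y ⊕ Y → Q ⊕ (Q ⊓ centralizer ({n} : Set G) : Subgroup G) := fun t => t.elim
    (fun C => Sum.inl (z C)) (fun C =>
      if hf : (z C : G) ∈ centralizer ({n} : Set G) then Sum.inr ⟨z C, (z C).2, hf⟩
      else Sum.inl ⟨n * z C * n⁻¹, (mem_normalizer_iff.mp hn _).mp (z C).2⟩)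
  have hconj : ∀ C : Y, ConjClasses.mk (n * (z C : G) * n⁻¹) = C.1 := fun C =>
    (ConjClasses.mk_eq_mk_iff_isConj.mpr (isConj_iff.mpr ⟨n, rfl⟩)).symm.trans (hz C)
  have hinj : Function.Injective f := by
    rintro (C | C) (D | D) hCD <;> simp only [f, Sum.elim_inl, Sum.elim_inr] at hCD
    · exact congrArg Sum.inl (Subtype.ext (by rw [← hz C, ← hz D, Sum.inl.inj hCD]))
    · exfalso
      split_ifs at hCD with hf
      have h1 := congrArg Subtype.val (Sum.inl.inj hCD)
      simp only at h1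
      have hD : C = D := Subtype.ext (by rw [← hz C, h1, hconj D])
      rw [hD] at h1
      exact hf (H27.mem_cent.mpr (mul_inv_eq_iff_eq_mul.mp h1.symm).symm)
    · exfalso
      split_ifs at hCD with hf
      have h1 := congrArg Subtype.val (Sum.inl.inj hCD)
      simp only at h1
      have hD : D = C := Subtype.ext (by rw [← hz D, ← h1, hconj C])
      rw [hD] at h1
      exact hf (H27.mem_cent.mpr (mul_inv_eq_iff_eq_mul.mp h1).symm)
    · refine congrArg Sum.inr (Subtype.ext ?_)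
      split_ifs at hCD with hC hD hD
      · rw [← hz C, ← hz D, show (z C : G) = z D from (congrArg Subtype.val (Sum.inr.inj hCD) :)]
      · rw [← hconj C, ← hconj D,
          show n * (z C : G) * n⁻¹ = n * z D * n⁻¹ from congrArg Subtype.val (Sum.inl.inj hCD)]
  have := Nat.card_le_card_of_injective f hinj
  rw [Nat.card_sum, Nat.card_sum] at this
  rw [two_mul]
  exact this

/-- Without a normal `r`-complement there are few classes of `r`-elements. -/
theorem two_mul_kk_primePow_le {r : ℕ} [Fact r.Prime] (hno : ¬ Cfsg.HasNormalPComplement r G) :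
    2 * r * kk G (r ^ (Nat.card G).factorization r) ≤
      r ^ (Nat.card G).factorization r * (r + 1) := by
  have hr2 := (Fact.out : r.Prime).two_le
  obtain ⟨P⟩ : Nonempty (Sylow r G) := inferInstance
  have hcov : ∀ g : G, g ^ r ^ (Nat.card G).factorization r = 1 →
      ∃ x : G, x * g * x⁻¹ ∈ (P : Subgroup G) := fun g => exists_conj_mem_sylow P
  rw [← P.card_eq_multiplicity] at hcov ⊢
  by_cases hab : commutator (P : Subgroup G) = ⊥
  · have hcom : (P : Subgroup G) ≤ centralizer ((P : Subgroup G) : Set G) := fun a ha =>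
      mem_centralizer_iff.mpr fun b hb => congrArg Subtype.val
        (commutatorElement_eq_one_iff_mul_comm.mp
          (show ⁅(⟨b, hb⟩ : (P : Subgroup G)), ⟨a, ha⟩⁆ = 1 by
            rw [← Subgroup.mem_bot, ← hab]
            exact commutator_mem_commutator (mem_top _) (mem_top _)))
    obtain ⟨n, hn, hnc⟩ := SetLike.not_le_iff_exists.mp fun h =>
      hno (H27.hasNormalPComplement_of_normalizer_le P h)
    have h1 := two_mul_kk_le (P : Subgroup G) hcov hn
    set F := (P : Subgroup G) ⊓ centralizer ({n} : Set G)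
    have hF : Nat.card F * r ≤ Nat.card (P : Subgroup G) := by
      have hne : F.relIndex (P : Subgroup G) ≠ 1 := by
        rw [Ne, relIndex_eq_one]
        intro hle
        exact hnc (H27.le_cent_iff.mp (hle.trans inf_le_right))
      have hmul : Nat.card F * F.relIndex (P : Subgroup G) = Nat.card (P : Subgroup G) := by
        rw [← relIndex_bot_left, relIndex_mul_relIndex _ _ _ bot_le inf_le_left, relIndex_bot_left]
      obtain ⟨i, -, hi⟩ := (Nat.dvd_prime_pow Fact.out).mp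
        (P.card_eq_multiplicity ▸ Dvd.intro_left _ hmul :
          F.relIndex (P : Subgroup G) ∣ r ^ (Nat.card G).factorization r)
      rw [← hmul]
      refine Nat.mul_le_mul_left _ ?_
      rw [hi] at hne ⊢
      exact Nat.le_self_pow (fun h0 => hne (by rw [h0, pow_zero])) r
    nlinarith [Nat.mul_le_mul_left r h1]
  · have h1 := kk_le_of_cover (P : Subgroup G) hcov
    have h2 := mul_classes_le (H := (P : Subgroup G)) (p := r) (fun s hs hsd => by
      rw [P.card_eq_multiplicity] at hsd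
      exact ((Nat.prime_dvd_prime_iff_eq hs Fact.out).mp (hs.dvd_of_dvd_pow hsd)).ge) hab
    have h4 : r ^ 2 + r - 1 + 1 = r ^ 2 + r := Nat.sub_add_cancel (by nlinarith)
    refine Nat.le_of_mul_le_mul_left ?_ (show 0 < r ^ 2 by positivity)
    calc r ^ 2 * (2 * r * kk G (Nat.card (P : Subgroup G)))
        = 2 * (r ^ 3 * kk G (Nat.card (P : Subgroup G))) := by ring
      _ ≤ 2 * (Nat.card (P : Subgroup G) * (r ^ 2 + r - 1)) :=
          Nat.mul_le_mul_left _ ((Nat.mul_le_mul_left _ h1).trans h2)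
      _ ≤ r ^ 2 * (Nat.card (P : Subgroup G) * (r + 1)) := by
          have h5 : 2 * (r ^ 2 + r - 1) ≤ r ^ 2 * (r + 1) := by nlinarith
          nlinarith [Nat.mul_le_mul_left (Nat.card (P : Subgroup G)) h5]

end H4.ManyClasses
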