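import Cfsg.Agent.H4.ManyClasses.Parts

/-!
A group with many classes of elements killed by a Hall number `m` has a nilpotent subgroup of
order `m`.
-/

set_option autoImplicit false

namespace H4.ManyClasses

open Subgroup
open scoped Pointwise commutatorElement

universe u

variable {G : Type u} [Group G] [Finite G]

theorem IsFull.factorization_eq {m : ℕ} (h : IsFull G m) (hm : m ∣ Nat.card G) {r : ℕ}
    (hr : r.Prime) (hrm : r ∣ m) : m.factorization r = (Nat.card G).factorization r :=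
  le_antisymm ((Nat.factorization_le_iff_dvd
    (ne_zero_of_dvd_ne_zero Nat.card_pos.ne' hm) Nat.card_pos.ne').mpr hm r) (h r hr hrm)

/-- A normal `r`-complement lowers the problem to the primes other than `r`. -/
theorem nilpotent_of_complement {m p r : ℕ} [Fact r.Prime] (hp : 2 ≤ p)
    (hprimes : ∀ s : ℕ, s.Prime → s ∣ m → p ≤ s) (hm : m ∣ Nat.card G) (hfull : IsFull G m)
    (hrm : r ∣ m) (hmany : m < p * kk G m) (hG : Cfsg.HasNormalPComplement r G)
    (ih : ∀ n, n < m → n ∣ Nat.card G → IsFull G n → (∀ s : ℕ, s.Prime → s ∣ n → p ≤ s) →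
      n < p * kk G n → ∃ H : Subgroup G, Nat.card H = n ∧ Group.IsNilpotent H) :
    ∃ H : Subgroup G, Nat.card H = m ∧ Group.IsNilpotent H := by
  have hrp : r.Prime := Fact.out
  have hm0 : m ≠ 0 := ne_zero_of_dvd_ne_zero Nat.card_pos.ne' hm
  set e := (Nat.card G).factorization r with he
  set n := m / r ^ m.factorization r
  have hme : m.factorization r = e := hfull.factorization_eq hm hrp hrm
  have hmn : m = n * r ^ e := by
    rw [← hme, Nat.div_mul_cancel (Nat.ordProj_dvd m r)]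
  have hrn : ¬ r ∣ n := Nat.not_dvd_ordCompl hrp hm0
  have hcop : n.Coprime (r ^ e) := (((Nat.coprime_ordCompl hrp hm0).pow_left e)).symm
  have hfn : IsFull G n := (hmn ▸ hfull).left hcop
  have hnm : n ∣ m := Dvd.intro _ hmn.symm
  have he0 : e ≠ 0 := hme ▸ (hrp.factorization_pos_of_dvd hm0 hrm).ne'
  have hlt : n < m := Nat.div_lt_self (Nat.pos_of_ne_zero hm0)
    (Nat.one_lt_pow (hme.symm ▸ he0) hrp.one_lt)
  have hK : kk G m ≤ kk G n * r ^ e := by
    rw [hmn]
    refine kk_mul_le hcop _ fun x _ => kk_le_self (pow_ne_zero _ hrp.ne_zero) fun s hs hsd => ?_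
    obtain rfl := (Nat.prime_dvd_prime_iff_eq hs hrp).mp (hs.dvd_of_dvd_pow hsd)
    rw [hrp.factorization_pow, Finsupp.single_eq_same]
    exact (Nat.factorization_le_iff_dvd Nat.card_pos.ne' Nat.card_pos.ne').mpr
      (card_subgroup_dvd_card _) s
  obtain ⟨H, hH, hnil⟩ := ih n hlt (hnm.trans hm) hfn (fun s hs hsd => hprimes s hs (hsd.trans hnm))
    (by
      refine Nat.lt_of_mul_lt_mul_right (a := r ^ e) ?_
      rw [← hmn, mul_assoc]
      exact lt_of_lt_of_le hmany (Nat.mul_le_mul_left p hK))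
  obtain ⟨L, hL, hcov⟩ := exists_cover_of_complement hG hfn hrn hH hnil
  rw [← he, ← hmn] at hL hcov
  refine ⟨L, hL, isNilpotent_of_many hp (fun s hs hsd => hprimes s hs (hL ▸ hsd)) ?_⟩
  rw [hL]
  exact lt_of_lt_of_le hmany (Nat.mul_le_mul_left p (kk_le_of_cover L hcov))

/-- An abelian Sylow subgroup joins a nilpotent subgroup of its centraliser. -/
theorem nilpotent_sup {Q U : Subgroup G} (hQ : Q ≤ centralizer (Q : Set G))
    (hU : U ≤ centralizer (Q : Set G)) (hnil : Group.IsNilpotent U)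
    (hcop : (Nat.card U).Coprime (Nat.card Q)) :
    Nat.card ↥(U ⊔ Q) = Nat.card U * Nat.card Q ∧ Group.IsNilpotent ↥(U ⊔ Q) := by
  have hcomm : ∀ (a : U) (b : Q), Commute (U.subtype a) (Q.subtype b) := fun a b =>
    (mem_centralizer_iff.mp (hU a.2) b b.2).symm
  have := hnil
  have : Group.IsNilpotent Q := by
    refine Subgroup.isNilpotent_of_ker_le_center (H := PUnit.{1}) (1 : Q →* PUnit.{1}) fun x _ => ?_
    rw [mem_center_iff]
    exact fun y => Subtype.ext (mem_centralizer_iff.mp (hQ x.2) y y.2)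
  refine ⟨card_sup_of_normalize
    ((le_centralizer_iff.mp hU).trans (centralizer_le_normalizer _)) hcop, ?_⟩
  have hr : (U.subtype.noncommCoprod Q.subtype hcomm).range = U ⊔ Q := by
    rw [MonoidHom.noncommCoprod_range, range_subtype, range_subtype]
  have := Group.nilpotent_of_surjective (U.subtype.noncommCoprod Q.subtype hcomm).rangeRestrict
    (MonoidHom.rangeRestrict_surjective _)
  exact hr ▸ this

theorem count_step {q m' b : ℕ} [Fact q.Prime] (Q : Sylow q G)
    (hQ : (Q : Subgroup G) ≤ centralizer ((Q : Subgroup G) : Set G))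
    (hb : (Nat.card G).factorization q = b + 1) (hcop : m'.Coprime (q ^ (b + 1))) :
    kk G (m' * q ^ (b + 1)) ≤
      kk G (q ^ (b + 1)) * kk (centralizer ((Q : Subgroup G) : Set G)) m' +
        Nat.card {D : ConjClasses G // (∃ x : G, ConjClasses.mk x = D ∧ x ^ m' = 1) ∧
          ¬ ∃ z : G, ConjClasses.mk z = D ∧ z ∈ centralizer ((Q : Subgroup G) : Set G)} * q ^ b := by
  refine (kk_mul_le_add hcop (fun D => ∃ z : G, ConjClasses.mk z = D ∧
    z ∈ centralizer ((Q : Subgroup G) : Set G))).trans (Nat.add_le_add (good_le Q hQ)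
    (card_split_le hcop (fun D => ¬ ∃ z : G, ConjClasses.mk z = D ∧
      z ∈ centralizer ((Q : Subgroup G) : Set G)) _ fun x _ hbad => ?_))
  set C := centralizer ({x} : Set G)
  have hC : ¬ q ^ (b + 1) ∣ Nat.card C := by
    intro hd
    obtain ⟨S₀, hS₀⟩ := Sylow.exists_subgroup_card_pow_prime q hd
    have hS : Nat.card (S₀.map C.subtype) = q ^ (Nat.card G).factorization q := by
      rw [card_map_of_injective C.subtype_injective, hS₀, hb]
    obtain ⟨g, hg⟩ := MulAction.exists_smul_eq G (Sylow.ofCard _ hS) Q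
    refine hbad ⟨g * x * g⁻¹,
      (ConjClasses.mk_eq_mk_iff_isConj.mpr (isConj_iff.mpr ⟨g, rfl⟩)).symm, ?_⟩
    rw [mem_centralizer_iff]
    intro a ha
    rw [← hg, Sylow.coe_subgroup_smul, Sylow.coe_ofCard, SetLike.mem_coe,
      H1.mem_conj_smul_iff] at ha
    have h1 : Commute x (g⁻¹ * a * g) := H27.mem_cent_comm.mp (map_subtype_le _ ha)
    have h2 := h1.map (MulAut.conj g).toMonoidHom
    simpa [mul_assoc] using h2.eq.symm
  have hle : (Nat.card C).factorization q ≤ b := by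
    by_contra h
    exact hC ((Fact.out : q.Prime).pow_dvd_iff_le_factorization Nat.card_pos.ne' |>.mpr
      (by omega))
  refine (kk_mono fun g hg => ?_).trans (kk_le_self (pow_ne_zero _ (Fact.out : q.Prime).ne_zero)
    fun s hs hsd => ?_)
  · obtain ⟨i, -, hi⟩ := (Nat.dvd_prime_pow Fact.out).mp (orderOf_dvd_of_pow_eq_one hg)
    apply orderOf_dvd_iff_pow_eq_one.mp
    rw [hi]
    refine pow_dvd_pow q (le_trans ?_ hle)
    exact ((Fact.out : q.Prime).pow_dvd_iff_le_factorization Nat.card_pos.ne').mp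
      (hi ▸ orderOf_dvd_natCard g)
  · obtain rfl := (Nat.prime_dvd_prime_iff_eq hs Fact.out).mp (hs.dvd_of_dvd_pow hsd)
    rw [(Fact.out : s.Prime).factorization_pow, Finsupp.single_eq_same]
    exact hle

/-- Classes of `2`-elements with no member centralising `Q`. -/
theorem bad_two_le (Q : Subgroup G) (a c : ℕ) (ha : (Nat.card G).factorization 2 = a)
    (hc : c ∣ 2 ^ a) (hcQ : c ∣ Nat.card (centralizer (Q : Set G))) :
    Nat.card {D : ConjClasses G // (∃ x : G, ConjClasses.mk x = D ∧ x ^ 2 ^ a = 1) ∧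
      ¬ ∃ z : G, ConjClasses.mk z = D ∧ z ∈ centralizer (Q : Set G)} + c ≤ 2 ^ a := by
  haveI := Fact.mk Nat.prime_two
  set CQ := centralizer (Q : Set G)
  obtain ⟨i, hi, rfl⟩ := (Nat.dvd_prime_pow Nat.prime_two).mp hc
  obtain ⟨P₀, hP₀⟩ := Sylow.exists_subgroup_card_pow_prime 2 hcQ
  obtain ⟨P, hP⟩ := IsPGroup.exists_le_sylow
    ((IsPGroup.of_card (p := 2) (G := P₀) (n := i) hP₀).map CQ.subtype)
  have hle : P₀.map CQ.subtype ≤ (P : Subgroup G) := hP
  let Y := {D : ConjClasses G // (∃ x : G, ConjClasses.mk x = D ∧ x ^ 2 ^ a = 1) ∧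
    ¬ ∃ z : G, ConjClasses.mk z = D ∧ z ∈ CQ}
  have h : ∀ D : Y, ∃ z : (P : Subgroup G), ConjClasses.mk (z : G) = D.1 ∧
      (z : G) ∉ P₀.map CQ.subtype := by
    intro D
    obtain ⟨x, hx, hxa⟩ := D.2.1
    obtain ⟨t, ht⟩ := exists_conj_mem_sylow P hxa
    have hmk : ConjClasses.mk (t * x * t⁻¹) = D.1 :=
      (ConjClasses.mk_eq_mk_iff_isConj.mpr (isConj_iff.mpr ⟨t, rfl⟩)).symm.trans hx
    exact ⟨⟨_, ht⟩, hmk, fun hmem => D.2.2 ⟨_, hmk, map_subtype_le _ hmem⟩⟩
  choose z hz hz' using h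
  let f : Y ⊕ (P₀.map CQ.subtype : Subgroup G) → (P : Subgroup G) :=
    fun t => t.elim z (fun w : (P₀.map CQ.subtype : Subgroup G) => ⟨(w : G), hle w.2⟩)
  have hf : Function.Injective f := by
    rintro (C | w) (D | w') hCD <;> simp only [f, Sum.elim_inl, Sum.elim_inr] at hCD
    · exact congrArg Sum.inl (Subtype.ext (by rw [← hz C, ← hz D, hCD]))
    · exact absurd (hCD ▸ w'.2 : (z C : G) ∈ P₀.map CQ.subtype) (hz' C)
    · exact absurd (hCD ▸ w.2 : (z D : G) ∈ P₀.map CQ.subtype) (hz' D)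
    · exact congrArg Sum.inr (Subtype.ext (congrArg Subtype.val hCD :))
  have := Nat.card_le_card_of_injective f hf
  rwa [Nat.card_sum, card_map_of_injective CQ.subtype_injective, hP₀,
    P.card_eq_multiplicity, ha] at this

/-- The case without normal complements for the extreme primes cannot occur. -/
theorem no_complement_case {m p0 q : ℕ} [Fact p0.Prime] [Fact q.Prime] (hm : m ∣ Nat.card G)
    (hfull : IsFull G m) (hp0m : p0 ∣ m) (hqm : q ∣ m) (hlt : p0 < q)
    (hmin : ∀ s : ℕ, s.Prime → s ∣ m → p0 ≤ s) (hmax : ∀ s : ℕ, s.Prime → s ∣ m → s ≤ q)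
    (hno0 : ¬ Cfsg.HasNormalPComplement p0 G) (hnoq : ¬ Cfsg.HasNormalPComplement q G)
    (hmany : m < p0 * kk G m)
    (ih : ∀ n, n < m → ∀ (C : Subgroup G), n ∣ Nat.card C → IsFull C n →
      (∀ s : ℕ, s.Prime → s ∣ n → p0 ≤ s) → n < p0 * kk C n →
      ∃ H : Subgroup C, Nat.card H = n ∧ Group.IsNilpotent H) :
    ∃ H : Subgroup G, Nat.card H = m ∧ Group.IsNilpotent H := by
  have hqp : q.Prime := Fact.out
  have hp0 : p0.Prime := Fact.out
  have hm0 : m ≠ 0 := ne_zero_of_dvd_ne_zero Nat.card_pos.ne' hm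
  have hmq := hfull.factorization_eq hm hqp hqm
  obtain ⟨b, hb⟩ : ∃ b, (Nat.card G).factorization q = b + 1 :=
    ⟨(Nat.card G).factorization q - 1, by have := hqp.factorization_pos_of_dvd hm0 hqm; omega⟩
  set m' := m / q ^ m.factorization q
  have hmm : m = m' * q ^ (b + 1) := by
    rw [← hb, ← hmq, Nat.div_mul_cancel (Nat.ordProj_dvd m q)]
  have hcop : m'.Coprime (q ^ (b + 1)) := ((Nat.coprime_ordCompl hqp hm0).pow_left _).symm
  have hm'd : m' ∣ m := Dvd.intro _ hmm.symm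
  have hfm' : IsFull G m' := (hmm ▸ hfull).left hcop
  have hm'0 : m' ≠ 0 := ne_zero_of_dvd_ne_zero hm0 hm'd
  have hp0m' : p0 ∣ m' := by
    rw [hmm] at hp0m
    exact (hp0.dvd_mul.mp hp0m).resolve_right fun h =>
      hlt.ne ((Nat.prime_dvd_prime_iff_eq hp0 hqp).mp (hp0.dvd_of_dvd_pow h))
  obtain ⟨Q⟩ : Nonempty (Sylow q G) := inferInstance
  have hQcard : Nat.card (Q : Subgroup G) = q ^ (b + 1) := by rw [Q.card_eq_multiplicity, hb]
  have hkq : 2 * q * kk G (q ^ (b + 1)) ≤ q ^ (b + 1) * (q + 1) :=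
    hb ▸ two_mul_kk_primePow_le hnoq
  -- the Sylow `q`-subgroup is abelian
  have hQab : (Q : Subgroup G) ≤ centralizer ((Q : Subgroup G) : Set G) := by
    suffices hbot : commutator (Q : Subgroup G) = ⊥ from fun a ha =>
      mem_centralizer_iff.mpr fun c hc => congrArg Subtype.val
        (commutatorElement_eq_one_iff_mul_comm.mp
          (show ⁅(⟨c, hc⟩ : (Q : Subgroup G)), ⟨a, ha⟩⁆ = 1 by
            rw [← Subgroup.mem_bot, ← hbot]
            exact commutator_mem_commutator (mem_top _) (mem_top _)))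
    by_contra hne
    have h1 : kk G (q ^ (b + 1)) ≤ Nat.card (ConjClasses (Q : Subgroup G)) :=
      kk_le_of_cover _ fun g hg => exists_conj_mem_sylow Q hg
    have h2 := mul_classes_le (H := (Q : Subgroup G)) (p := q) (fun s hs hsd => by
      rw [hQcard] at hsd
      exact ((Nat.prime_dvd_prime_iff_eq hs hqp).mp (hs.dvd_of_dvd_pow hsd)).ge) hne
    rw [hQcard] at h2
    have h3 : kk G m ≤ kk G (q ^ (b + 1)) * m' := by
      rw [hmm, mul_comm m']
      exact kk_mul_le hcop.symm _ fun x _ => kk_le_self hm'0 (hfm'.subgroup _)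
    have h4 : p0 * (q ^ 2 + q - 1) ≤ q ^ 3 := by
      obtain ⟨t, rfl⟩ : ∃ t, q = t + 1 := ⟨q - 1, by omega⟩
      have h5 : (t + 1) ^ 2 + (t + 1) - 1 = t ^ 2 + 3 * t + 1 := by
        rw [Nat.sub_eq_iff_eq_add (by nlinarith)]; ring
      rw [h5]
      nlinarith [Nat.mul_le_mul_right (t ^ 2 + 3 * t + 1) (show p0 ≤ t by omega)]
    have h6 : p0 * (q ^ 3 * kk G m) ≤ q ^ 3 * m :=
      calc p0 * (q ^ 3 * kk G m) ≤ p0 * (q ^ 3 * (kk G (q ^ (b + 1)) * m')) := by gcongr
        _ = p0 * ((q ^ 3 * kk G (q ^ (b + 1))) * m') := by ring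
        _ ≤ p0 * (q ^ (b + 1) * (q ^ 2 + q - 1) * m') := by
            exact Nat.mul_le_mul_left _ (Nat.mul_le_mul_right _
              ((Nat.mul_le_mul_left _ h1).trans h2))
        _ = (p0 * (q ^ 2 + q - 1)) * m := by rw [hmm]; ring
        _ ≤ q ^ 3 * m := Nat.mul_le_mul_right m h4
    have := Nat.mul_lt_mul_of_pos_left hmany (pow_pos hqp.pos 3)
    linarith
  set CQ := centralizer ((Q : Subgroup G) : Set G)
  set u := kk CQ m' with hu
  set c := Nat.gcd m' (Nat.card CQ)
  have huc : u ≤ c := kk_le_gcd hm'0 (hfm'.subgroup _)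
  by_cases hcase : m' ∣ Nat.card CQ ∧ m' < p0 * u
  · obtain ⟨U₀, hU₀, hnil⟩ := ih m' (Nat.div_lt_self (Nat.pos_of_ne_zero hm0)
      (Nat.one_lt_pow (by omega) hqp.one_lt)) CQ hcase.1 (hfm'.subgroup _)
      (fun s hs hsd => hmin s hs (hsd.trans hm'd)) hcase.2
    have hU : Nat.card (U₀.map CQ.subtype) = m' := by
      rw [card_map_of_injective CQ.subtype_injective, hU₀]
    have := hnil
    obtain ⟨hcard, hn⟩ := nilpotent_sup hQab (map_subtype_le U₀)
      ((Group.isNilpotent_congr (U₀.equivMapOfInjective _ CQ.subtype_injective)).mp hnil)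
      (by rw [hU, hQcard]; exact hcop)
    exact ⟨_, by rw [hcard, hU, hQcard, ← hmm], hn⟩
  exfalso
  have hu2 : p0 * u ≤ m' := by
    by_cases hd : m' ∣ Nat.card CQ
    · exact not_lt.mp fun h => hcase ⟨hd, h⟩
    · have hcne : c ≠ m' := fun h => hd (h ▸ Nat.gcd_dvd_right _ _)
      obtain ⟨t, ht⟩ : c ∣ m' := Nat.gcd_dvd_left _ _
      have ht1 : t ≠ 1 := fun h => hcne (by rw [h, mul_one] at ht; exact ht.symm)
      obtain ⟨s, hs, hst⟩ := Nat.exists_prime_and_dvd ht1
      have hsm : s ∣ m' := ht ▸ hst.mul_left c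
      calc p0 * u ≤ t * c := Nat.mul_le_mul ((hmin s hs (hsm.trans hm'd)).trans
              (Nat.le_of_dvd (Nat.pos_of_ne_zero fun h => hm'0 (by rw [ht, h, mul_zero])) hst)) huc
        _ = m' := by rw [mul_comm]; exact ht.symm
  have hK := count_step (m' := m') Q hQab hb hcop
  rw [← hmm, ← hu] at hK
  set bad := Nat.card {D : ConjClasses G // (∃ x : G, ConjClasses.mk x = D ∧ x ^ m' = 1) ∧
    ¬ ∃ z : G, ConjClasses.mk z = D ∧ z ∈ CQ}
  have hbad : bad ≤ kk G m' := Nat.card_le_card_of_injective (fun D => ⟨D.1, D.2.1⟩)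
    fun a b h => Subtype.ext (congrArg (fun t => t.1) h)
  rw [pow_succ] at hkq hK
  set Q' := q ^ b
  have hQ'0 : 0 < Q' := pow_pos hqp.pos _
  have hkq' : 2 * kk G (Q' * q) ≤ Q' * (q + 1) := by
    refine Nat.le_of_mul_le_mul_left ?_ hqp.pos
    linarith
  have hK2 : 2 * kk G m ≤ Q' * ((q + 1) * u + 2 * bad) := by
    nlinarith [Nat.mul_le_mul_right u hkq']
  suffices p0 * kk G m ≤ m' * Q' * q by
    have : m = m' * Q' * q := by rw [hmm, pow_succ, ← mul_assoc]
    omega
  rcases eq_or_ne p0 2 with rfl | hp02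
  · rcases eq_or_ne q 3 with rfl | hq3
    · -- all primes of `m'` are `2`
      set a := (Nat.card G).factorization 2 with ha
      have hm'2 : m' = 2 ^ a := by
        have h1 := Nat.eq_prime_pow_of_unique_prime_dvd hm'0 (p := 2) fun {d} hd hdm => by
          have h3 := hmax d hd (hdm.trans hm'd)
          have h2 := hd.two_le
          have : d ≠ 3 := fun h => Nat.not_coprime_of_dvd_of_dvd (by omega : 1 < 3) (h ▸ hdm)
            (dvd_pow_self 3 b.succ_ne_zero) hcop
          omega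
        obtain ⟨i, hi⟩ : ∃ i, m' = 2 ^ i := ⟨_, h1⟩
        have h4 := hfm'.factorization_eq (hm'd.trans hm) Nat.prime_two hp0m'
        rw [hi, Nat.prime_two.factorization_pow, Finsupp.single_eq_same] at h4
        rw [hi, h4]
      have hc2 := bad_two_le (Q : Subgroup G) a c ha.symm (hm'2 ▸ Nat.gcd_dvd_left _ _)
        (Nat.gcd_dvd_right _ _)
      have hb2 : bad + c ≤ m' := by
        simp only [bad, hm'2]
        exact hc2
      have h1 : (3 + 1) * u + 2 * bad ≤ 3 * m' := by omega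
      nlinarith [Nat.mul_le_mul_left Q' h1]
    · have hq5 : 5 ≤ q := by
        have : q ≠ 4 := fun h => by rw [h] at hqp; norm_num at hqp
        omega
      have h1 : bad ≤ m' := hbad.trans (kk_le_self hm'0 hfm')
      have h2 : 2 * ((q + 1) * u + 2 * bad) ≤ 2 * m' * q := by
        nlinarith [Nat.mul_le_mul_left (q + 1) hu2, Nat.mul_le_mul_left m' hq5]
      nlinarith [Nat.mul_le_mul_left Q' h2]
  · have hodd : 3 ≤ p0 := by have := hp0.two_le; omega
    have hq2 : p0 + 2 ≤ q := by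
      have hne : q ≠ p0 + 1 := fun h => by
        rcases Nat.even_or_odd p0 with he | ho
        · exact hp02 (hp0.even_iff.mp he)
        · exact absurd (hqp.even_iff.mp (h ▸ ho.add_one)) (by omega)
      omega
    -- few classes for the prime `p0`
    set a := (Nat.card G).factorization p0 with ha
    set m3 := m' / p0 ^ m'.factorization p0
    have hma := hfm'.factorization_eq (hm'd.trans hm) hp0 hp0m'
    have hm3 : m' = p0 ^ a * m3 := by
      rw [ha, ← hma, Nat.mul_div_cancel' (Nat.ordProj_dvd m' p0)]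
    have hcop3 : (p0 ^ a).Coprime m3 := (Nat.coprime_ordCompl hp0 hm'0).pow_left _
    have hf3 : IsFull G m3 := IsFull.left (a := m3) (b := p0 ^ a)
      (by rw [mul_comm, ← hm3]; exact hfm') hcop3.symm
    have h0 := two_mul_kk_primePow_le hno0
    rw [← ha] at h0
    have h1 : 2 * p0 * bad ≤ m' * (p0 + 1) := by
      have h2 : kk G m' ≤ kk G (p0 ^ a) * m3 := by
        rw [hm3]
        exact kk_mul_le hcop3 _ fun x _ =>
          kk_le_self (fun h => hm'0 (by rw [hm3, h, mul_zero])) (hf3.subgroup _)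
      calc 2 * p0 * bad ≤ 2 * p0 * (kk G (p0 ^ a) * m3) :=
            Nat.mul_le_mul_left _ (hbad.trans h2)
        _ = 2 * p0 * kk G (p0 ^ a) * m3 := by ring
        _ ≤ p0 ^ a * (p0 + 1) * m3 := Nat.mul_le_mul_right _ h0
        _ = m' * (p0 + 1) := by rw [hm3]; ring
    have h3 : p0 * ((q + 1) * u + 2 * bad) ≤ 2 * m' * q := by
      nlinarith [Nat.mul_le_mul_left (q + 1) hu2, Nat.mul_le_mul_left m' hq2]
    nlinarith [Nat.mul_le_mul_left Q' h3, Nat.mul_le_mul_left p0 hK2]

theorem exists_nilpotent : ∀ (m : ℕ) (G : Type u) [Group G] [Finite G] (p : ℕ), 2 ≤ p →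
    m ∣ Nat.card G → IsFull G m → (∀ s : ℕ, s.Prime → s ∣ m → p ≤ s) → m < p * kk G m →
    ∃ H : Subgroup G, Nat.card H = m ∧ Group.IsNilpotent H := by
  intro m
  induction m using Nat.strong_induction_on with
  | _ m ih =>
  intro G _ _ p hp hm hfull hprimes hmany
  have hm0 : m ≠ 0 := ne_zero_of_dvd_ne_zero Nat.card_pos.ne' hm
  rcases eq_or_ne m 1 with rfl | hm1
  · exact ⟨⊥, card_bot, inferInstance⟩
  set p0 := m.minFac
  haveI := Fact.mk (Nat.minFac_prime hm1)
  have hp0m : p0 ∣ m := Nat.minFac_dvd m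
  have hne : m.primeFactors.Nonempty := ⟨p0, Nat.mem_primeFactors.mpr ⟨Fact.out, hp0m, hm0⟩⟩
  set q := m.primeFactors.max' hne
  obtain ⟨hqp, hqm, -⟩ := Nat.mem_primeFactors.mp (m.primeFactors.max'_mem hne)
  haveI := Fact.mk hqp
  have hmax : ∀ s : ℕ, s.Prime → s ∣ m → s ≤ q := fun s hs hsm =>
    m.primeFactors.le_max' _ (Nat.mem_primeFactors.mpr ⟨hs, hsm, hm0⟩)
  have hmin : ∀ s : ℕ, s.Prime → s ∣ m → p0 ≤ s := fun s hs hsm =>
    Nat.minFac_le_of_dvd hs.two_le hsm
  rcases (hmin q hqp hqm).eq_or_lt with heq | hlt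
  · -- a prime power: a Sylow subgroup
    have h1 := Nat.eq_prime_pow_of_unique_prime_dvd hm0 (p := p0) fun {d} hd hdm =>
      le_antisymm (heq.symm ▸ hmax d hd hdm) (hmin d hd hdm)
    obtain ⟨P, hP⟩ := Sylow.exists_subgroup_card_pow_prime (G := G) p0 (h1 ▸ hm)
    exact ⟨P, hP.trans h1.symm, (IsPGroup.of_card hP).isNilpotent⟩
  by_cases hc0 : Cfsg.HasNormalPComplement p0 G
  · exact nilpotent_of_complement hp hprimes hm hfull hp0m hmany hc0
      fun n hn h1 h2 h3 h4 => ih n hn G p hp h1 h2 h3 h4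
  by_cases hcq : Cfsg.HasNormalPComplement q G
  · exact nilpotent_of_complement hp hprimes hm hfull hqm hmany hcq
      fun n hn h1 h2 h3 h4 => ih n hn G p hp h1 h2 h3 h4
  exact no_complement_case hm hfull hp0m hqm hlt hmin hmax hc0 hcq
    (hmany.trans_le (Nat.mul_le_mul_right _ (hprimes p0 Fact.out hp0m)))
    fun n hn C h1 h2 h3 h4 => ih n hn C p0 (Fact.out : p0.Prime).two_le h1 h2 h3 h4

end H4.ManyClasses
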