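import Cfsg.Agent.H1.CoprimeAction2
import Cfsg.Agent.H4.NilpotentHall
import Cfsg.Agent.H4.ManyClasses.Count

/-!
The two ways to a Hall subgroup covering the elements killed by `m`, and the count of the classes
whose parts centralise a Sylow subgroup.
-/

set_option autoImplicit false

namespace H4.ManyClasses

open Subgroup
open scoped Pointwise

universe u

variable {G : Type u} [Group G] [Finite G]

theorem IsFull.coprime_div {m : ℕ} (h : IsFull G m) (hm : m ∣ Nat.card G) :
    m.Coprime (Nat.card G / m) := by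
  obtain ⟨t, ht⟩ := hm
  have hm0 : m ≠ 0 := fun h0 => Nat.card_pos.ne' (ht.trans (by rw [h0, zero_mul]))
  have ht0 : t ≠ 0 := fun h0 => Nat.card_pos.ne' (ht.trans (by rw [h0, mul_zero]))
  rw [ht, Nat.mul_div_cancel_left _ (Nat.pos_of_ne_zero hm0)]
  refine Nat.coprime_of_dvd fun r hr hrm hrt => ?_
  have := h r hr hrm
  rw [ht, Nat.factorization_mul hm0 ht0, Finsupp.add_apply] at this
  have := hr.factorization_pos_of_dvd ht0 hrt
  omega

theorem IsFull.coprime_index {m : ℕ} (h : IsFull G m) {H : Subgroup G} (hH : Nat.card H = m) :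
    (Nat.card H).Coprime H.index := by
  have hidx : H.index = Nat.card G / m := by
    rw [← H.card_mul_index, hH, Nat.mul_div_cancel_left _ (hH ▸ Nat.card_pos)]
  rw [hidx, hH]
  exact h.coprime_div (hH ▸ card_subgroup_dvd_card H)

theorem IsFull.left {a b : ℕ} (h : IsFull G (a * b)) (hab : a.Coprime b) : IsFull G a := by
  intro r hr hra
  have := h r hr (hra.mul_right b)
  rwa [Nat.factorization_mul_apply_of_coprime hab,
    Nat.factorization_eq_zero_of_not_dvd (n := b)
      (fun hrb => Nat.not_coprime_of_dvd_of_dvd hr.one_lt hra hrb hab), add_zero] at this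

theorem cover_of_nilpotent {m : ℕ} (h : IsFull G m) {H : Subgroup G} (hH : Nat.card H = m)
    (hnil : Group.IsNilpotent H) (g : G) (hg : g ^ m = 1) : ∃ x : G, x * g * x⁻¹ ∈ H := by
  obtain ⟨x, hx⟩ := H4.wielandt_aux _ H (zpowers g) rfl hnil (h.coprime_index hH) (fun r hr hrd => by
    rw [Nat.card_zpowers] at hrd
    rw [hH]
    exact hrd.trans (orderOf_dvd_of_pow_eq_one hg))
  exact ⟨x⁻¹, by simpa [H1.mem_conj_smul_iff] using hx (mem_zpowers g)⟩

theorem card_sup_of_normalize {N K : Subgroup G} (hK : K ≤ normalizer (N : Set G))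
    (hcop : (Nat.card N).Coprime (Nat.card K)) :
    Nat.card ↥(N ⊔ K) = Nat.card N * Nat.card K := by
  rw [← Nat.card_prod]
  refine (Nat.card_congr (Equiv.ofBijective (fun x : N × K => (⟨x.1.1 * x.2.1,
    Subgroup.mul_mem_sup x.1.2 x.2.2⟩ : ↥(N ⊔ K))) ⟨fun a b hab => ?_, fun g => ?_⟩)).symm
  · have h1 : a.1.1 * a.2.1 = b.1.1 * b.2.1 := congrArg Subtype.val hab
    have h2 : b.1.1⁻¹ * a.1.1 = b.2.1 * a.2.1⁻¹ := by
      rw [eq_mul_inv_iff_mul_eq, mul_assoc, h1, inv_mul_cancel_left]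
    have h3 := Subgroup.disjoint_def.mp (Subgroup.disjoint_of_coprime_natCard hcop)
      (N.mul_mem (N.inv_mem b.1.2) a.1.2) (h2 ▸ K.mul_mem b.2.2 (K.inv_mem a.2.2))
    rw [h3] at h2
    exact Prod.ext (Subtype.ext (inv_mul_eq_one.1 h3).symm)
      (Subtype.ext (mul_inv_eq_one.1 h2.symm).symm)
  · have hg : (g : G) ∈ ((N ⊔ K : Subgroup G) : Set G) := g.2
    rw [Subgroup.coe_mul_of_right_le_normalizer_left _ _ hK] at hg
    obtain ⟨a, ha, b, hb, hab⟩ := hg
    exact ⟨(⟨a, ha⟩, ⟨b, hb⟩), Subtype.ext hab⟩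

theorem mem_of_coprime_index (N : Subgroup G) [N.Normal] {x : G}
    (h : (orderOf x).Coprime N.index) : x ∈ N := by
  rw [← QuotientGroup.eq_one_iff (N := N), ← orderOf_eq_one_iff]
  exact Nat.eq_one_of_dvd_coprimes h (orderOf_map_dvd (QuotientGroup.mk' N) x)
    (orderOf_dvd_natCard _)

/-- In the fixed points of a coprime operator, the fixed points of an invariant nilpotent Hall
subgroup absorb the elements of its order type. -/
theorem exists_fixed_conj_mem {K A H : Subgroup G} (hHK : H ≤ K)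
    (hAK : A ≤ normalizer (K : Set G)) (hAH : A ≤ normalizer (H : Set G))
    (hsol : Group.IsSolvable A) (hcop : (Nat.card A).Coprime (Nat.card K))
    (hnil : Group.IsNilpotent H) (hhall : (Nat.card H).Coprime (H.relIndex K))
    {x : G} (hxK : x ∈ K) (hxA : x ∈ centralizer (A : Set G)) (hx : x ^ Nat.card H = 1) :
    ∃ c ∈ centralizer (A : Set G), c * x * c⁻¹ ∈ H := by
  set C := K ⊓ centralizer (A : Set G) with hC
  set V := H ⊓ centralizer (A : Set G) with hV
  have hVC : V ≤ C := inf_le_inf_right _ hHK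
  have hfull : ∀ s : ℕ, s.Prime → s ∣ Nat.card H →
      s ^ (Nat.card C).factorization s ∣ Nat.card V := by
    intro s hs hsH
    haveI := Fact.mk hs
    obtain ⟨S⟩ : Nonempty (Sylow s C) := inferInstance
    set U := (S : Subgroup C).map C.subtype with hU
    have hUC : U ≤ C := map_subtype_le _
    have hUA : A ≤ normalizer (U : Set G) := fun a ha => centralizer_le_normalizer _
      (mem_centralizer_iff.mpr fun z hz =>
        (mem_centralizer_iff.mp (hUC hz).2 a ha).symm)
    obtain ⟨P, hUP, hPA⟩ := H1.exists_invariant_sylow_ge hAK hcop (Or.inl hsol) s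
      (hUC.trans inf_le_left) (S.isPGroup'.map _) hUA
    obtain ⟨T, hTA⟩ := H1.exists_invariant_sylow hAH
      (hcop.coprime_dvd_right (card_dvd_of_le hHK)) (Or.inl hsol) s
    set T' := (T : Subgroup H).map H.subtype
    have hT'H : T' ≤ H := map_subtype_le _
    have hT'K : Nat.card (T'.subgroupOf K) = s ^ (Nat.card K).factorization s := by
      rw [Nat.card_congr (subgroupOfEquivOfLe (hT'H.trans hHK)).toEquiv,
        card_map_of_injective H.subtype_injective, T.card_eq_multiplicity]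
      congr 1
      have hmul : Nat.card H * H.relIndex K = Nat.card K := by
        rw [← relIndex_bot_left, relIndex_mul_relIndex _ _ _ bot_le hHK, relIndex_bot_left]
      rw [← hmul, Nat.factorization_mul_apply_of_coprime hhall,
        Nat.factorization_eq_zero_of_not_dvd (n := H.relIndex K)
          (fun hd => Nat.not_coprime_of_dvd_of_dvd hs.one_lt hsH hd hhall), add_zero]
    set PT := Sylow.ofCard (T'.subgroupOf K) hT'K with hPT
    have hPTmap : (PT : Subgroup K).map K.subtype = T' := by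
      rw [hPT, Sylow.coe_ofCard, subgroupOf_map_subtype, inf_eq_left.mpr (hT'H.trans hHK)]
    obtain ⟨c, hcA, hc⟩ := H1.exists_fixed_conj_sylow hAK hcop (Or.inl hsol) s P PT hPA
      (by rw [hPTmap]; exact hTA)
    have hcU : MulAut.conj (c : G) • U ≤ V := by
      intro z hz
      rw [H1.mem_conj_smul_iff] at hz
      refine mem_inf.mpr ⟨hT'H ?_, ?_⟩
      · rw [← hPTmap, ← hc, Sylow.pointwise_smul_def, H1.map_subtype_conj_smul,
          H1.mem_conj_smul_iff]
        exact hUP hz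
      · have := mul_mem (mul_mem hcA (hUC hz).2) (inv_mem hcA)
        simpa [mul_assoc] using this
    have := card_dvd_of_le hcU
    rwa [Nat.card_congr (Subgroup.equivSMul (MulAut.conj (c : G)) U).symm.toEquiv, hU,
      card_map_of_injective C.subtype_injective, S.card_eq_multiplicity] at this
  have hVnil : Group.IsNilpotent (V.subgroupOf C) := by
    haveI := hnil
    haveI : Group.IsNilpotent (V.subgroupOf H) := inferInstance
    have : Group.IsNilpotent V :=
      (Group.isNilpotent_congr (subgroupOfEquivOfLe (inf_le_left : V ≤ H))).mp inferInstance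
    exact (Group.isNilpotent_congr (subgroupOfEquivOfLe hVC).symm).mp this
  have hcard : Nat.card (V.subgroupOf C) = Nat.card V :=
    Nat.card_congr (subgroupOfEquivOfLe hVC).toEquiv
  have hVhall : (Nat.card (V.subgroupOf C)).Coprime (V.subgroupOf C).index := by
    refine Nat.coprime_of_dvd fun s hs hsV hsi => ?_
    have h1 := hfull s hs ((hcard ▸ hsV).trans (card_dvd_of_le inf_le_left))
    rw [← (V.subgroupOf C).card_mul_index, ← hcard,
      hs.pow_dvd_iff_le_factorization Nat.card_pos.ne',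
      Nat.factorization_mul Nat.card_pos.ne' index_ne_zero_of_finite, Finsupp.add_apply] at h1
    have := hs.factorization_pos_of_dvd index_ne_zero_of_finite hsi
    omega
  obtain ⟨d, hd⟩ := H4.wielandt_aux _ (V.subgroupOf C)
    (zpowers (⟨x, mem_inf.mpr ⟨hxK, hxA⟩⟩ : C)) rfl hVnil hVhall (fun s hs hsd => by
      rw [Nat.card_zpowers] at hsd
      have hsC : s ∣ Nat.card C := hsd.trans (orderOf_dvd_natCard _)
      have hsH : s ∣ Nat.card H := by
        rw [Subgroup.orderOf_mk] at hsd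
        exact hsd.trans (orderOf_dvd_of_pow_eq_one hx)
      rw [hcard]
      exact (dvd_pow_self s (hs.factorization_pos_of_dvd Nat.card_pos.ne' hsC).ne').trans
        (hfull s hs hsH))
  have h1 := hd (mem_zpowers _)
  rw [H1.mem_conj_smul_iff, mem_subgroupOf] at h1
  exact ⟨(d : G)⁻¹, inv_mem d.2.2, by simpa [V] using h1.1⟩

/-- With a normal `r`-complement a nilpotent Hall subgroup grows by the prime `r`. -/
theorem exists_cover_of_complement {r : ℕ} [Fact r.Prime] (hG : Cfsg.HasNormalPComplement r G)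
    {n : ℕ} (hn : IsFull G n) (hrn : ¬ r ∣ n) {H : Subgroup G} (hH : Nat.card H = n)
    (hnil : Group.IsNilpotent H) :
    ∃ L : Subgroup G, Nat.card L = n * r ^ (Nat.card G).factorization r ∧
      ∀ g : G, g ^ (n * r ^ (Nat.card G).factorization r) = 1 → ∃ x : G, x * g * x⁻¹ ∈ L := by
  obtain ⟨P, K, hKn, hKP⟩ := hG
  haveI := hKn
  set e := (Nat.card G).factorization r with he
  have hKidx : K.index = r ^ e := by
    rw [hKP.symm.index_eq_card, P.card_eq_multiplicity]
  have hcopn : n.Coprime (r ^ e) :=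
    (((Fact.out : r.Prime).coprime_iff_not_dvd.mpr hrn).pow_left e).symm
  have hHK : H ≤ K := fun x hx => mem_of_coprime_index K (by
    rw [hKidx]
    refine hcopn.coprime_dvd_left ?_
    rw [← hH]
    exact H.orderOf_dvd_natCard hx)
  have hhallK : (Nat.card H).Coprime (H.relIndex K) :=
    (hn.coprime_index hH).coprime_dvd_right (relIndex_dvd_index_of_le hHK)
  set N := normalizer (H : Set G) with hN
  have hsurj : Function.Surjective ((QuotientGroup.mk' K).comp N.subtype) := by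
    intro t
    obtain ⟨g, rfl⟩ := QuotientGroup.mk'_surjective K t
    have hle : MulAut.conj g • H ≤ K := fun z hz => by
      rw [H1.mem_conj_smul_iff] at hz
      have := hKn.conj_mem _ (hHK hz) g
      simpa [mul_assoc] using this
    obtain ⟨⟨k, hk⟩, hk'⟩ := H4.wielandt_aux _ (H.subgroupOf K) ((MulAut.conj g • H).subgroupOf K)
      rfl ((Group.isNilpotent_congr (subgroupOfEquivOfLe hHK).symm).mp hnil)
      (by
        rw [Nat.card_congr (subgroupOfEquivOfLe hHK).toEquiv]
        exact hhallK)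
      (fun p _ hp => by
        rw [Nat.card_congr (subgroupOfEquivOfLe hle).toEquiv,
          ← Nat.card_congr (Subgroup.equivSMul (MulAut.conj g) H).toEquiv] at hp
        rwa [Nat.card_congr (subgroupOfEquivOfLe hHK).toEquiv])
    have hsub : MulAut.conj g • H ≤ MulAut.conj k • H := fun z hz => by
      have h1 := hk' (show (⟨z, hle hz⟩ : K) ∈ (MulAut.conj g • H).subgroupOf K from hz)
      rw [H1.mem_conj_smul_iff, mem_subgroupOf] at h1
      rw [H1.mem_conj_smul_iff]
      simpa using h1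
    have heq : MulAut.conj g • H = MulAut.conj k • H := eq_of_le_of_card_ge hsub
      (by rw [← Nat.card_congr (Subgroup.equivSMul (MulAut.conj g) H).toEquiv,
        ← Nat.card_congr (Subgroup.equivSMul (MulAut.conj k) H).toEquiv])
    have hmem : k⁻¹ * g ∈ N := by
      rw [hN, Subgroup.mem_normalizer_iff_map_conj_eq]
      change MulAut.conj (k⁻¹ * g) • H = H
      rw [map_mul, mul_smul, heq, ← mul_smul, ← map_mul, inv_mul_cancel, map_one, one_smul]
    refine ⟨⟨_, hmem⟩, ?_⟩
    simp [(QuotientGroup.eq_one_iff k).mpr hk]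
  have hdvd : r ^ e ∣ Nat.card N := hKidx ▸ card_dvd_of_surjective _ hsurj
  obtain ⟨R₀, hR₀⟩ := Sylow.exists_subgroup_card_pow_prime r hdvd
  set R := R₀.map N.subtype
  have hR : Nat.card R = r ^ e := by rw [card_map_of_injective N.subtype_injective, hR₀]
  have hRN : R ≤ N := map_subtype_le _
  refine ⟨H ⊔ R, by rw [card_sup_of_normalize hRN (by rw [hH, hR]; exact hcopn), hH, hR], ?_⟩
  intro g hg
  obtain ⟨x, y, hxy, hx, hy, rfl⟩ := H27.exists_split hcopn hg
  obtain ⟨t, ht⟩ := exists_conj_mem_sylow (Sylow.ofCard R hR) hy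
  rw [Sylow.coe_ofCard] at ht
  set y' := t * y * t⁻¹
  set x' := t * x * t⁻¹
  have hx' : x' ^ n = 1 := by
    show (MulAut.conj t x) ^ n = 1
    rw [← map_pow, hx, map_one]
  have hxK : x' ∈ K := mem_of_coprime_index K (by
    rw [hKidx]; exact hcopn.coprime_dvd_left (orderOf_dvd_of_pow_eq_one hx'))
  have hcent : x' ∈ centralizer ((zpowers y' : Subgroup G) : Set G) := by
    rw [mem_centralizer_iff]
    rintro _ ⟨i, rfl⟩
    exact (((hxy.map (MulAut.conj t).toMonoidHom).symm).zpow_left i).eq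
  obtain ⟨c, hc, hcx⟩ := exists_fixed_conj_mem (A := zpowers y') hHK
    (by rw [normalizer_eq_top (H := K)]; exact le_top)
    ((zpowers_le.mpr ht).trans hRN)
    (Group.isSolvable_of_comm fun ⟨_, i, hi⟩ ⟨_, j, hj⟩ => Subtype.ext (by
      subst hi hj; exact ((Commute.refl y').zpow_zpow i j).eq))
    (by
      refine Nat.Coprime.coprime_dvd_left
        ((card_dvd_of_le (zpowers_le.mpr ht)).trans (dvd_of_eq hR)) ?_
      rw [← P.card_eq_multiplicity]
      exact (Nat.Coprime.coprime_dvd_left (dvd_refl _) (by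
        rw [← hKP.symm.index_eq_card, hKidx]
        refine Nat.Coprime.pow_left e ((Fact.out : r.Prime).coprime_iff_not_dvd.mpr fun hd => ?_)
        have h1 := K.card_mul_index
        rw [hKidx] at h1
        have h2 : r ^ (e + 1) ∣ Nat.card G := h1 ▸ (by rw [pow_succ']; exact Nat.mul_dvd_mul hd dvd_rfl)
        exact Nat.pow_succ_factorization_not_dvd Nat.card_pos.ne' Fact.out h2)))
    hnil hhallK hxK hcent (by rw [hH]; exact hx')
  refine ⟨c * t, ?_⟩
  have hcy : c * y' * c⁻¹ = y' := by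
    rw [← mem_centralizer_iff.mp hc y' (mem_zpowers _), mul_inv_cancel_right]
  have : c * t * (x * y) * (c * t)⁻¹ = (c * x' * c⁻¹) * y' := by
    calc c * t * (x * y) * (c * t)⁻¹ = (c * x' * c⁻¹) * (c * y' * c⁻¹) := by
          simp only [x', y']; group
      _ = _ := by rw [hcy]
  rw [this]
  exact Subgroup.mul_mem_sup hcx ht

/-- Classes whose `m`-part centralises an abelian Sylow subgroup. -/
theorem good_le {q : ℕ} [Fact q.Prime] {m b : ℕ} (Q : Sylow q G)
    (hQ : (Q : Subgroup G) ≤ centralizer ((Q : Subgroup G) : Set G)) :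
    Nat.card {C : ConjClasses G // ∃ x y : G, x ^ m = 1 ∧ y ^ q ^ b = 1 ∧ Commute x y ∧
        (∃ z : G, ConjClasses.mk z = ConjClasses.mk x ∧
          z ∈ centralizer ((Q : Subgroup G) : Set G)) ∧ ConjClasses.mk (x * y) = C} ≤
      kk G (q ^ b) * kk (centralizer ((Q : Subgroup G) : Set G)) m := by
  set CQ := centralizer ((Q : Subgroup G) : Set G)
  let Y := {E : ConjClasses G // ∃ g : G, ConjClasses.mk g = E ∧ g ^ q ^ b = 1}
  let Z := {D : ConjClasses CQ // ∃ g, ConjClasses.mk g = D ∧ g ^ m = 1}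
  have h : ∀ E : Y, ∃ z : (Q : Subgroup G), ConjClasses.mk (z : G) = E.1 ∧ (z : G) ^ q ^ b = 1 := by
    intro E
    obtain ⟨g, hg, hgb⟩ := E.2
    obtain ⟨x, hx⟩ := exists_conj_mem_sylow Q hgb
    exact ⟨⟨_, hx⟩, (ConjClasses.mk_eq_mk_iff_isConj.mpr (isConj_iff.mpr ⟨x, rfl⟩)).symm.trans hg,
      by show (MulAut.conj x g) ^ q ^ b = 1; rw [← map_pow, hgb, map_one]⟩
  choose y0 hy0 hy0b using h
  show _ ≤ Nat.card Y * Nat.card Z
  rw [← Nat.card_prod]
  refine Nat.card_le_card_of_surjective (fun t : Y × Z =>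
    ⟨ConjClasses.mk ((t.2.2.choose : G) * (y0 t.1 : G)), _, _,
      congrArg Subtype.val t.2.2.choose_spec.2, hy0b t.1,
      ((mem_centralizer_iff.mp t.2.2.choose.2 _ (y0 t.1).2).symm : Commute _ _),
      ⟨_, rfl, t.2.2.choose.2⟩, rfl⟩) ?_
  rintro ⟨C, x, y, hx, hy, hxy, ⟨z, hz, hzQ⟩, rfl⟩
  obtain ⟨g, rfl⟩ := isConj_iff.mp (ConjClasses.mk_eq_mk_iff_isConj.mp hz.symm)
  -- move the `q`-part into `Q` inside the centraliser of the moved `m`-part
  have hQc : (Q : Subgroup G) ≤ centralizer ({g * x * g⁻¹} : Set G) := H27.le_cent_iff.mpr hzQ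
  have hyc : g * y * g⁻¹ ∈ centralizer ({g * x * g⁻¹} : Set G) := by
    rw [H27.mem_cent_comm]
    simpa [MulAut.conj_apply] using hxy.map (MulAut.conj g).toMonoidHom
  obtain ⟨c, hc⟩ := exists_conj_mem_sylow (Q.subtype hQc) (y := ⟨_, hyc⟩) (e := b)
    (Subtype.ext (by simp [hy]))
  set y1 := (c : G) * (g * y * g⁻¹) * (c : G)⁻¹ with hy1
  have hy1Q : y1 ∈ (Q : Subgroup G) := hc
  have hy1b : y1 ^ q ^ b = 1 := by simp [hy1, hy]
  let E₀ : Y := ⟨ConjClasses.mk y1, y1, rfl, hy1b⟩
  obtain ⟨d, hd⟩ := isConj_iff.mp (ConjClasses.mk_eq_mk_iff_isConj.mp (hy0 E₀).symm)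
  obtain ⟨n, hn, hny⟩ := Q.conj_eq_normalizer_conj_of_mem_centralizer y1 d⁻¹ (hQ hy1Q)
    (by rw [inv_inv, hd]; exact hQ (y0 E₀).2)
  rw [inv_inv, hd] at hny
  have hx1 : n⁻¹ * (g * x * g⁻¹) * n ∈ CQ := by
    show _ ∈ centralizer ((Q : Subgroup G) : Set G)
    rw [mem_centralizer_iff]
    intro a ha
    have hna : n * a * n⁻¹ ∈ (Q : Subgroup G) := (mem_normalizer_iff.mp hn a).mp ha
    have := congrArg (fun t => n⁻¹ * t * n) (mem_centralizer_iff.mp hzQ _ hna)
    simpa [mul_assoc] using this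
  let D₀ : Z := ⟨ConjClasses.mk ⟨_, hx1⟩, _, rfl, Subtype.ext (by
    show (n⁻¹ * (g * x * g⁻¹) * n) ^ m = 1
    have : n⁻¹ * (g * x * g⁻¹) * n = MulAut.conj n⁻¹ (MulAut.conj g x) := by simp [mul_assoc]
    rw [this, ← map_pow, ← map_pow, hx, map_one, map_one])⟩
  refine ⟨(E₀, D₀), Subtype.ext ?_⟩
  obtain ⟨e, he⟩ := isConj_iff.mp (ConjClasses.mk_eq_mk_iff_isConj.mp D₀.2.choose_spec.1)
  have he' : (e : G) * (D₀.2.choose : G) * (e : G)⁻¹ = n⁻¹ * (g * x * g⁻¹) * n :=
    congrArg Subtype.val he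
  have hey : (e : G) * (y0 E₀ : G) * (e : G)⁻¹ = y0 E₀ := by
    rw [← mem_centralizer_iff.mp e.2 _ (y0 E₀).2, mul_inv_cancel_right]
  have hcx : (c : G) * (g * x * g⁻¹) * (c : G)⁻¹ = g * x * g⁻¹ := by
    rw [H27.mem_cent.mp c.2, mul_inv_cancel_right]
  refine ConjClasses.mk_eq_mk_iff_isConj.mpr (isConj_iff.mpr ⟨g⁻¹ * (c : G)⁻¹ * n * e, ?_⟩)
  calc g⁻¹ * (c : G)⁻¹ * n * (e : G) * ((D₀.2.choose : G) * (y0 E₀ : G)) *
        (g⁻¹ * (c : G)⁻¹ * n * (e : G))⁻¹
      = g⁻¹ * (c : G)⁻¹ * n * ((e : G) * (D₀.2.choose : G) * (e : G)⁻¹ *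
          ((e : G) * (y0 E₀ : G) * (e : G)⁻¹)) * n⁻¹ * c * g := by group
    _ = g⁻¹ * (c : G)⁻¹ * n * (n⁻¹ * (g * x * g⁻¹) * n * (n⁻¹ * y1 * n)) * n⁻¹ * c * g := by
        rw [he', hey, ← hny]
    _ = g⁻¹ * (c : G)⁻¹ * ((g * x * g⁻¹) * y1) * c * g := by group
    _ = g⁻¹ * (c : G)⁻¹ * (((c : G) * (g * x * g⁻¹) * (c : G)⁻¹) * y1) * c * g := by rw [hcx]
    _ = x * y := by rw [hy1]; group

end H4.ManyClasses
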