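import Cfsg.Agent.H4.ManyClasses.Main

/-!
The statements in terms of classes of `π`-elements.
-/

set_option autoImplicit false

namespace H4.ManyClasses

universe u

variable {G : Type u} [Group G] [Finite G]

theorem card_pi_classes (π : Set ℕ) {m : ℕ} (hm : m ∣ Nat.card G)
    (hmπ : ∀ q : ℕ, q.Prime → q ∣ m → q ∈ π) (hm' : ∀ q ∈ π, ¬ q ∣ Nat.card G / m) :
    Nat.card {C : ConjClasses G // ∀ q : ℕ, q.Prime →
      (∃ g : G, ConjClasses.mk g = C ∧ q ∣ orderOf g) → q ∈ π} = kk G m := by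
  refine Nat.card_congr (Equiv.subtypeEquivRight fun C => ⟨fun h => ?_, fun h q hq hg => ?_⟩)
  · obtain ⟨g, rfl⟩ := ConjClasses.exists_rep C
    refine ⟨g, rfl, orderOf_dvd_iff_pow_eq_one.mp ?_⟩
    refine Nat.Coprime.dvd_of_dvd_mul_right (Nat.coprime_of_dvd fun r hr hrg hrt => ?_)
      ((Nat.mul_div_cancel' hm).symm ▸ orderOf_dvd_natCard g : orderOf g ∣ m * (Nat.card G / m))
    exact hm' r (h r hr ⟨g, rfl, hrg⟩) hrt
  · obtain ⟨g, rfl, hgm⟩ := h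
    obtain ⟨g', hg', hd⟩ := hg
    obtain ⟨c, rfl⟩ := isConj_iff.mp (ConjClasses.mk_eq_mk_iff_isConj.mp hg')
    refine hmπ q hq (hd.trans (orderOf_dvd_of_pow_eq_one ?_))
    have : MulAut.conj c g' ^ m = 1 := hgm
    rw [← map_pow, MulEquiv.map_eq_one_iff] at this
    exact this

theorem isFull_of_pi (π : Set ℕ) {m : ℕ} (hm : m ∣ Nat.card G)
    (hmπ : ∀ q : ℕ, q.Prime → q ∣ m → q ∈ π) (hm' : ∀ q ∈ π, ¬ q ∣ Nat.card G / m) :
    IsFull G m := by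
  intro r hr hrm
  obtain ⟨t, ht⟩ := hm
  have hm0 : m ≠ 0 := fun h => Nat.card_pos.ne' (ht.trans (by rw [h, zero_mul]))
  have ht0 : t ≠ 0 := fun h => Nat.card_pos.ne' (ht.trans (by rw [h, mul_zero]))
  have h1 := hm' r (hmπ r hr hrm)
  rw [ht, Nat.mul_div_cancel_left _ (Nat.pos_of_ne_zero hm0)] at h1
  rw [ht, Nat.factorization_mul hm0 ht0, Finsupp.add_apply,
    Nat.factorization_eq_zero_of_not_dvd h1, add_zero]

/-- Many classes of `π`-elements force a Hall subgroup with many classes. -/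
theorem exists_hall (π : Set ℕ) {p : ℕ} (hp : 2 ≤ p) (hmin : ∀ q ∈ π, p ≤ q) {m : ℕ}
    (hm : m ∣ Nat.card G) (hmπ : ∀ q : ℕ, q.Prime → q ∣ m → q ∈ π)
    (hm' : ∀ q ∈ π, ¬ q ∣ Nat.card G / m) {k : ℕ}
    (hk : k = Nat.card {C : ConjClasses G // ∀ q : ℕ, q.Prime →
      (∃ g : G, ConjClasses.mk g = C ∧ q ∣ orderOf g) → q ∈ π}) (hmany : m < p * k) :
    ∃ H : Subgroup G, Nat.card H = m ∧ Group.IsNilpotent H ∧
      (∀ s : ℕ, s.Prime → s ∣ Nat.card H → p ≤ s) ∧ k ≤ Nat.card (ConjClasses H) := by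
  rw [card_pi_classes π hm hmπ hm'] at hk
  have hf := isFull_of_pi π hm hmπ hm'
  have hpr : ∀ s : ℕ, s.Prime → s ∣ m → p ≤ s := fun s hs hsm => hmin s (hmπ s hs hsm)
  obtain ⟨H, hH, hnil⟩ := exists_nilpotent m G p hp hm hf hpr (hk ▸ hmany)
  exact ⟨H, hH, hnil, fun s hs hsd => hpr s hs (hH ▸ hsd),
    hk ▸ kk_le_of_cover H (cover_of_nilpotent hf hH hnil)⟩

end H4.ManyClasses
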